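import Mathlib

set_option autoImplicit false

open Finset

namespace Groth.Agent.SSRedLib

/-- the exponent of `p` in `N(g)` -/
def ex (g p : ℕ) : ℕ :=
  if p = 2 then 3 * g + padicValNat 2 g.factorial
  else (2 * g) / (p - 1) + ∑ i ∈ Icc 1 ((2 * g) / (p - 1)), padicValNat p i

theorem pow_ne_one {l a : ℕ} (hl : 2 ≤ l) (ha : a ≠ 0) : l ^ a - 1 ≠ 0 := by
  have := Nat.one_lt_pow ha (show 1 < l by omega)
  omega

theorem val_two {l : ℕ} (hl : 2 ≤ l) (hodd : Odd l) {a : ℕ} (ha : a ≠ 0) :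
    padicValNat 2 (l ^ (2 * a) - 1) = padicValNat 2 (l + 1) + padicValNat 2 (l - 1) + padicValNat 2 a := by
  obtain ⟨m, rfl⟩ := hodd
  have h := padicValNat.pow_two_sub_pow (x := 2 * m + 1) (y := 1) (by omega) ⟨m, by omega⟩ (by omega)
    (show 2 * a ≠ 0 by omega) ⟨a, by omega⟩
  rw [one_pow, padicValNat.mul (by omega) ha, padicValNat_self] at h
  omega

theorem two_val_ge {l : ℕ} (hl : 2 ≤ l) (hodd : Odd l) :
    3 ≤ padicValNat 2 (l + 1) + padicValNat 2 (l - 1) := by
  obtain ⟨m, rfl⟩ := hodd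
  rw [← padicValNat.mul (by omega) (by omega)]
  refine (padicValNat_dvd_iff_le (by simp; omega)).1 ?_
  rw [show (2 * m + 1 + 1) * (2 * m + 1 - 1) = 4 * (m * (m + 1)) by
    rw [show 2 * m + 1 - 1 = 2 * m by omega]; ring]
  exact Nat.mul_dvd_mul_left 4 (Nat.even_mul_succ_self m).two_dvd

theorem fact_two (g : ℕ) : (∑ a ∈ Icc 1 g, padicValNat 2 a) = padicValNat 2 g.factorial := by
  induction g with
  | zero => simp
  | succ g ih =>
    rw [sum_Icc_succ_top (by omega), ih, Nat.factorial_succ,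
      padicValNat.mul (by omega) (Nat.factorial_ne_zero g), add_comm]

theorem sum_val_two (g : ℕ) {l : ℕ} (hl : 2 ≤ l) (hodd : Odd l) :
    (∑ a ∈ Icc 1 g, padicValNat 2 (l ^ (2 * a) - 1)) =
      g * (padicValNat 2 (l + 1) + padicValNat 2 (l - 1)) + padicValNat 2 g.factorial := by
  rw [sum_congr rfl fun a ha => val_two hl hodd (a := a) (by have := (mem_Icc.1 ha).1; omega),
    sum_add_distrib, sum_const, Nat.card_Icc, Nat.add_sub_cancel, smul_eq_mul, fact_two]

/-- the indices `a = i (p-1)/2` -/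
theorem sum_odd {p : ℕ} (hp : p.Prime) (hp2 : p ≠ 2) (g : ℕ) (f : ℕ → ℕ) :
    (∑ a ∈ (Icc 1 g).filter (fun a => p - 1 ∣ 2 * a), f a) =
      ∑ i ∈ Icc 1 ((2 * g) / (p - 1)), f (i * ((p - 1) / 2)) := by
  obtain ⟨m, hm⟩ := hp.odd_of_ne_two hp2
  have hm0 : 1 ≤ m := by have := hp.two_le; omega
  rw [show (p - 1) / 2 = m by omega, show p - 1 = 2 * m by omega, Nat.mul_div_mul_left _ _ two_pos]
  refine sum_nbij' (fun a => a / m) (fun i => i * m) ?_ ?_ ?_ ?_ ?_
  · intro a ha
    obtain ⟨ha, hd⟩ := mem_filter.1 ha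
    obtain ⟨h1, h2⟩ := mem_Icc.1 ha
    have hd' : m ∣ a := Nat.dvd_of_mul_dvd_mul_left two_pos hd
    exact mem_Icc.2 ⟨(Nat.one_le_div_iff hm0).2 (Nat.le_of_dvd h1 hd'), Nat.div_le_div_right h2⟩
  · intro i hi
    obtain ⟨h1, h2⟩ := mem_Icc.1 hi
    exact mem_filter.2 ⟨mem_Icc.2 ⟨Nat.mul_pos h1 hm0, (Nat.le_div_iff_mul_le hm0).1 h2⟩, ⟨i, by ring⟩⟩
  · intro a ha
    exact Nat.div_mul_cancel (Nat.dvd_of_mul_dvd_mul_left two_pos (mem_filter.1 ha).2)
  · intro i _; exact Nat.mul_div_cancel _ hm0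
  · intro a ha
    rw [Nat.div_mul_cancel (Nat.dvd_of_mul_dvd_mul_left two_pos (mem_filter.1 ha).2)]

theorem val_odd {p : ℕ} [hp : Fact p.Prime] (hp2 : p ≠ 2) {l : ℕ} (hl : 2 ≤ l) (hpl : ¬ p ∣ l)
    {i : ℕ} (hi : i ≠ 0) :
    padicValNat p (l ^ (2 * (i * ((p - 1) / 2))) - 1) = padicValNat p (l ^ (p - 1) - 1) + padicValNat p i := by
  obtain ⟨m, hm⟩ := hp.out.odd_of_ne_two hp2
  have h2 := hp.out.two_le
  rw [show 2 * (i * ((p - 1) / 2)) = (p - 1) * i by rw [show (p - 1) / 2 = m by omega, show p - 1 = 2 * m by omega]; ring,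
    pow_mul]
  have hd : p ∣ l ^ (p - 1) - 1 := by
    rw [← Nat.totient_prime hp.out]
    exact (Nat.modEq_iff_dvd' (Nat.one_le_pow _ _ (by omega))).1
      (Nat.ModEq.pow_totient ((hp.out.coprime_iff_not_dvd.2 hpl).symm)).symm
  have h := padicValNat.pow_sub_pow (p := p) (x := l ^ (p - 1)) (y := 1) ⟨m, hm⟩
    (Nat.one_lt_pow (by omega) (by omega)) hd (fun h => hpl (hp.out.dvd_of_dvd_pow h)) hi
  rwa [one_pow] at h

theorem ex_le {g p l : ℕ} (hp : p.Prime) (hl : 2 ≤ l) (hpl : ¬ p ∣ l) :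
    ex g p ≤ ∑ a ∈ Icc 1 g, padicValNat p (l ^ (2 * a) - 1) := by
  have := Fact.mk hp
  rw [ex]
  split_ifs with h
  · subst h
    have hodd : Odd l := Nat.odd_iff.2 (by omega)
    rw [sum_val_two g hl hodd]
    have := two_val_ge hl hodd
    have : g * 3 ≤ g * (padicValNat 2 (l + 1) + padicValNat 2 (l - 1)) := Nat.mul_le_mul_left g this
    omega
  · refine le_trans ?_ (sum_le_sum_of_subset (filter_subset (fun a => p - 1 ∣ 2 * a) _))
    rw [sum_odd hp h]
    calc (2 * g) / (p - 1) + ∑ i ∈ Icc 1 ((2 * g) / (p - 1)), padicValNat p i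
        = ∑ i ∈ Icc 1 ((2 * g) / (p - 1)), (1 + padicValNat p i) := by
          rw [sum_add_distrib, sum_const, Nat.card_Icc, smul_eq_mul, mul_one, Nat.add_sub_cancel]
      _ ≤ _ := sum_le_sum fun i hi => by
          rw [val_odd h hl hpl (by have := (mem_Icc.1 hi).1; omega)]
          refine Nat.add_le_add_right (one_le_padicValNat_of_dvd (pow_ne_one hl (by have := hp.two_le; omega)) ?_) _
          rw [← Nat.totient_prime hp]
          exact (Nat.modEq_iff_dvd' (Nat.one_le_pow _ _ (by omega))).1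
            (Nat.ModEq.pow_totient ((hp.coprime_iff_not_dvd.2 hpl).symm)).symm

theorem exists_prime_eq (g B : ℕ) {p : ℕ} (hp : p.Prime) :
    ∃ l : ℕ, l.Prime ∧ B < l ∧ (∑ a ∈ Icc 1 g, padicValNat p (l ^ (2 * a) - 1)) = ex g p := by
  have := Fact.mk hp
  rcases eq_or_ne p 2 with rfl | h2
  · obtain ⟨l, hlB, hl, hmod⟩ := Nat.forall_exists_prime_gt_and_modEq B (show (8 : ℕ) ≠ 0 by norm_num)
      (show Nat.Coprime 3 8 by norm_num)
    refine ⟨l, hl, hlB, ?_⟩
    have hm : l % 8 = 3 := hmod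
    rw [ex, if_pos rfl, sum_val_two g hl.two_le (Nat.odd_iff.2 (by omega))]
    obtain ⟨c, rfl⟩ : ∃ c, l = 8 * c + 3 := ⟨l / 8, by omega⟩
    have e1 : padicValNat 2 (8 * c + 3 + 1) = 2 := by
      rw [show 8 * c + 3 + 1 = 2 ^ 2 * (2 * c + 1) by ring, padicValNat.mul (by norm_num) (by omega),
        padicValNat.prime_pow, padicValNat.eq_zero_of_not_dvd (by omega)]
    have e2 : padicValNat 2 (8 * c + 3 - 1) = 1 := by
      rw [show 8 * c + 3 - 1 = 2 ^ 1 * (4 * c + 1) by omega, padicValNat.mul (by norm_num) (by omega),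
        padicValNat.prime_pow, padicValNat.eq_zero_of_not_dvd (by omega)]
    rw [e1, e2, Nat.mul_comm]
  · have hcyc := ZMod.isCyclic_units_of_prime_pow p hp h2 2
    obtain ⟨u, hu⟩ := IsCyclic.exists_ofOrder_eq_natCard (α := (ZMod (p ^ 2))ˣ)
    rw [Nat.card_eq_fintype_card, ZMod.card_units_eq_totient, Nat.totient_prime_pow hp (by norm_num)] at hu
    have : NeZero (p ^ 2) := ⟨by simp [hp.ne_zero]⟩
    obtain ⟨l, hlB, hl, hmod⟩ := Nat.forall_exists_prime_gt_and_eq_mod u.isUnit (max B p)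
    refine ⟨l, hl, (le_max_left B p).trans_lt hlB, ?_⟩
    have hpl : ¬ p ∣ l := fun h => by
      have := (Nat.prime_dvd_prime_iff_eq hp hl).1 h
      have := le_max_right B p
      omega
    have hord : ∀ m : ℕ, p ^ 2 ∣ l ^ m - 1 → p * (p - 1) ∣ m := fun m hd => by
      rw [show p * (p - 1) = p ^ (2 - 1) * (p - 1) by simp, ← hu, orderOf_dvd_iff_pow_eq_one]
      apply Units.ext
      rw [Units.val_pow_eq_pow_val, Units.val_one, ← hmod, ← Nat.cast_pow]
      have := (Nat.modEq_iff_dvd' (Nat.one_le_pow _ _ (by omega))).2 hd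
      rw [← Nat.cast_one, ZMod.natCast_eq_natCast_iff]
      exact this.symm
    have hzero : ∀ a ∈ Icc 1 g, ¬ p - 1 ∣ 2 * a → padicValNat p (l ^ (2 * a) - 1) = 0 := fun a ha hd => by
      refine padicValNat.eq_zero_of_not_dvd fun h => hd ?_
      -- lift to `p ^ 2`
      have h2' : p ^ 2 ∣ l ^ (p * (2 * a)) - 1 := by
        have hh := padicValNat.pow_sub_pow (p := p) (x := l ^ (2 * a)) (y := 1) (hp.odd_of_ne_two h2)
          (Nat.one_lt_pow (by have := (mem_Icc.1 ha).1; omega) hl.one_lt) h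
          (fun h' => hpl (hp.dvd_of_dvd_pow h')) hp.ne_zero
        rw [one_pow, padicValNat_self, ← pow_mul, mul_comm (2 * a) p] at hh
        refine (padicValNat_dvd_iff_le (pow_ne_one hl.two_le ?_)).2 ?_
        · have := (mem_Icc.1 ha).1; have := hp.pos; positivity
        · rw [hh]
          exact Nat.add_le_add_right (one_le_padicValNat_of_dvd (pow_ne_one hl.two_le
            (by have := (mem_Icc.1 ha).1; omega)) h) 1
      exact Nat.dvd_of_mul_dvd_mul_left hp.pos (hord _ h2')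
    have hone : padicValNat p (l ^ (p - 1) - 1) = 1 := by
      refine le_antisymm ?_ ?_
      · by_contra hc
        have h := hord (p - 1) ((padicValNat_dvd_iff_le (pow_ne_one hl.two_le (by have := hp.two_le; omega))).2 (by omega))
        have h' := Nat.le_of_dvd (by have := hp.two_le; omega) h
        have : 2 * (p - 1) ≤ p * (p - 1) := Nat.mul_le_mul_right _ hp.two_le
        have := hp.two_le
        omega
      · refine one_le_padicValNat_of_dvd (pow_ne_one hl.two_le (by have := hp.two_le; omega)) ?_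
        rw [← Nat.totient_prime hp]
        exact (Nat.modEq_iff_dvd' (Nat.one_le_pow _ _ hl.pos)).1
          (Nat.ModEq.pow_totient ((hp.coprime_iff_not_dvd.2 hpl).symm)).symm
    rw [← sum_filter_of_ne (p := fun a => p - 1 ∣ 2 * a) (fun a ha h => by
      by_contra hc; exact h (hzero a ha hc)), sum_odd hp h2, ex, if_neg h2,
      sum_congr rfl fun i hi => val_odd h2 hl.two_le hpl (i := i) (by have := (mem_Icc.1 hi).1; omega),
      sum_add_distrib, sum_const, Nat.card_Icc, hone, smul_eq_mul, mul_one, Nat.add_sub_cancel]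

theorem factorization_prod {g l : ℕ} (hl : 2 ≤ l) {p : ℕ} (hp : p.Prime) :
    (∏ a ∈ Icc 1 g, (l ^ (2 * a) - 1)).factorization p = ∑ a ∈ Icc 1 g, padicValNat p (l ^ (2 * a) - 1) := by
  rw [Nat.factorization_prod_apply fun a ha => pow_ne_one hl (by have := (mem_Icc.1 ha).1; omega)]
  exact sum_congr rfl fun a _ => Nat.factorization_def _ hp

theorem factorization_N (g : ℕ) {p : ℕ} (hp : p.Prime) :
    (2 ^ (3 * g + padicValNat 2 g.factorial) *
        ∏ q ∈ (Icc 3 (2 * g + 1)).filter Nat.Prime,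
          q ^ ((2 * g) / (q - 1) + ∑ i ∈ Icc 1 ((2 * g) / (q - 1)), padicValNat q i)).factorization p = ex g p := by
  have hne : ∀ q ∈ (Icc 3 (2 * g + 1)).filter Nat.Prime,
      q ^ ((2 * g) / (q - 1) + ∑ i ∈ Icc 1 ((2 * g) / (q - 1)), padicValNat q i) ≠ 0 :=
    fun q hq => pow_ne_zero _ (mem_filter.1 hq).2.ne_zero
  rw [Nat.factorization_mul (by positivity) (prod_ne_zero_iff.2 hne), Finsupp.add_apply,
    Nat.factorization_prod_apply hne, Nat.Prime.factorization_pow Nat.prime_two]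
  rw [sum_congr rfl fun q hq => by rw [Nat.Prime.factorization_pow (mem_filter.1 hq).2, Finsupp.single_apply],
    Finsupp.single_apply, sum_ite_eq', ex]
  rcases eq_or_ne p 2 with rfl | h2
  · simp
  · rw [if_neg (Ne.symm h2), zero_add, if_neg h2]
    split_ifs with h
    · rfl
    · have : (2 * g) / (p - 1) = 0 := by
        apply Nat.div_eq_of_lt
        have := hp.two_le
        by_contra hc
        exact h (mem_filter.2 ⟨mem_Icc.2 ⟨by omega, by omega⟩, hp⟩)
      simp [this]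

end Groth.Agent.SSRedLib
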